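import Mathlib
import Groth.Prelude.Def_Coh
import Groth.Agent.Lib.Helper1.CohAbel
import Groth.Agent.Lib.Helper5.Perf.PCCohNoeth
import Groth.Agent.Lib.Helper5.Perf.LocalCoh

/-!
# Coherent modules: extensions and middle terms of exact sequences (helper5)
-/

set_option autoImplicit false
universe u
open CategoryTheory CategoryTheory.Limits AlgebraicGeometry TopologicalSpace Opposite

namespace Groth.Agent.Lib.Helper5.CohExt

open Groth.Agent.Helper1 Groth.Agent.Helper1.FtLocal

variable {X : Scheme.{u}}

/-- a zero module is coherent -/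
theorem isCoh_of_isZero (M : X.Modules) (hM : IsZero M) : Coh.IsCoh M := by
  haveI hq : M.IsQuasicoherent := QcAbel.isQuasicoherent_of_isZero hM
  refine ⟨hq, isFiniteType_of_affineOpens M fun V hV => ?_⟩
  have hz : IsZero (M.restrict hV.fromSpec) :=
    (Scheme.Modules.restrictFunctor hV.fromSpec).map_isZero hM
  haveI : Subsingleton Γ(M.restrict hV.fromSpec, ⊤) :=
    Groth.Agent.Lib.Helper5.LocalCoh.subsingleton_sections_of_isZero _ hz ⊤
  infer_instance

/-- the middle term of a short exact sequence of quasi-coherent modules with outer terms of finite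
type is of finite type -/
theorem isFiniteType_middle {S : ShortComplex X.Modules} (hS : S.ShortExact)
    [S.X₁.IsQuasicoherent] [S.X₂.IsQuasicoherent] [S.X₃.IsQuasicoherent]
    (h1 : SheafOfModules.IsFiniteType.{u, u, u} S.X₁)
    (h3 : SheafOfModules.IsFiniteType.{u, u, u} S.X₃) :
    SheafOfModules.IsFiniteType.{u, u, u} S.X₂ := by
  refine isFiniteType_of_affineOpens S.X₂ fun V hV => ?_
  haveI : Module.Finite Γ(X, V) Γ(S.X₁.restrict hV.fromSpec, ⊤) :=
    AffFin.finite_restrict S.X₁ ‹_› h1 hV.fromSpec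
  haveI : Module.Finite Γ(X, V) Γ(S.X₃.restrict hV.fromSpec, ⊤) :=
    AffFin.finite_restrict S.X₃ ‹_› h3 hV.fromSpec
  have haff : IsAffineOpen (hV.fromSpec ''ᵁ ⊤) :=
    (isAffineOpen_top _).image_of_isOpenImmersion hV.fromSpec
  refine Module.Finite.of_exact (f := chartMap S.f hV.fromSpec) (g := chartMap S.g hV.fromSpec)
    ?_ (QcExt.app_surjective hS _ haff)
  intro y
  constructor
  · intro hy
    exact QcExt.app_exact hS _ y hy
  · rintro ⟨x, rfl⟩
    exact QcExt.app_zero S _ x

/-- an extension of coherent modules is coherent -/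
theorem isCoh_of_shortExact {S : ShortComplex X.Modules} (hS : S.ShortExact)
    (h1 : Coh.IsCoh S.X₁) (h3 : Coh.IsCoh S.X₃) (h2 : S.X₂.IsQuasicoherent) : Coh.IsCoh S.X₂ := by
  haveI := h1.1
  haveI := h3.1
  haveI := h2
  exact ⟨h2, isFiniteType_middle hS h1.2 h3.2⟩

/-- the middle term of an exact sequence with coherent outer terms is coherent, if it is
quasi-coherent (on a locally noetherian scheme) -/
theorem isCoh_of_exact [IsLocallyNoetherian X] (S : ShortComplex X.Modules) (hS : S.Exact)
    (h1 : Coh.IsCoh S.X₁) (h3 : Coh.IsCoh S.X₃) (h2 : S.X₂.IsQuasicoherent) : Coh.IsCoh S.X₂ := by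
  haveI := h1.1
  haveI := h3.1
  haveI := h2
  -- the kernel of `g` is a quotient of `X₁`
  haveI hKq : (kernel S.g).IsQuasicoherent := QcAbel.isQuasicoherent_kernel S.g
  haveI : Epi (kernel.lift S.g S.f S.zero) := (S.exact_iff_epi_kernel_lift).1 hS
  have hK : Coh.IsCoh (kernel S.g) :=
    Groth.Agent.Lib.Helper5.PCCoh.isCoh_of_epi (kernel.lift S.g S.f S.zero) h1 hKq
  -- the coimage of `g` is a submodule of `X₃`
  haveI hCq : (cokernel (kernel.ι S.g)).IsQuasicoherent := QcAbel.isQuasicoherent_cokernel _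
  have hC : Coh.IsCoh (Abelian.coimage S.g) :=
    isCoh_of_mono (Abelian.factorThruCoimage S.g) h3 hCq
  let S' : ShortComplex X.Modules := ShortComplex.mk (kernel.ι S.g) (cokernel.π (kernel.ι S.g))
    (cokernel.condition _)
  have hS' : S'.ShortExact :=
    { exact := ShortComplex.exact_of_g_is_cokernel _ (cokernelIsCokernel (kernel.ι S.g))
      mono_f := inferInstanceAs (Mono (kernel.ι S.g))
      epi_g := inferInstanceAs (Epi (cokernel.π (kernel.ι S.g))) }
  exact isCoh_of_shortExact (S := S') hS' hK hC h2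

end Groth.Agent.Lib.Helper5.CohExt
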