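import Mathlib
import Groth.Prelude.Def_Coh
import Groth.Agent.Lib.Helper3.LerayCol4
import Groth.Agent.Lib.Helper3.LerayCol2
import Groth.Agent.Lib.Helper1.RpushComp
import Groth.Agent.Lib.Helper1.RpushZero

/-!
# Higher direct images of O-modules along a composition `Z ⟶ X ⟶ S` with `Z ⟶ X` affine
-/

set_option autoImplicit false
set_option linter.unusedSectionVars false
set_option linter.unusedVariables false
universe u
open CategoryTheory CategoryTheory.Limits AlgebraicGeometry TopologicalSpace Opposite

namespace Groth.Agent.Lib.Helper5.ModLeray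

open Groth.Agent.Helper1 Groth.Agent.Helper3

variable {Z X S : Scheme.{u}} (i : Z ⟶ X) (f : X ⟶ S)

/-- the direct image of an injective module is acyclic for any further direct image -/
theorem isZero_rpush_push_injective [HasInjectiveResolutions X.Modules] (Q : Z.Modules)
    [Injective Q] (n : ℕ) :
    IsZero ((Coh.Rpush f (n + 1)).obj ((Scheme.Modules.pushforward i).obj Q)) := by
  apply RpushComp.isZero_of_toAb
  obtain ⟨e⟩ := RpushComp.nonempty_iso f ((Scheme.Modules.pushforward i).obj Q) (n + 1)
  refine IsZero.of_iso ?_ e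
  have hvan : ∀ q : ℕ, 0 < q → IsZero ((CohTop.Rpush i.base q).obj (Coh.toAb Q)) := by
    intro q hq
    obtain ⟨m, rfl⟩ : ∃ m, q = m + 1 := ⟨q - 1, by omega⟩
    exact RpushComp.isZero_rpushAb_injective i Q m
  obtain ⟨e2⟩ := LerayCol4.nonempty_iso_row i.base f.base (Coh.toAb Q) hvan (n + 1)
  refine IsZero.of_iso ?_ e2.symm
  exact RpushComp.isZero_rpushAb_injective (i ≫ f) Q n

/-- **Leray for an affine morphism followed by any morphism**, for quasi-coherent modules -/
theorem nonempty_rpush_comp [IsAffineHom i] [HasInjectiveResolutions Z.Modules]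
    [HasInjectiveResolutions X.Modules] (G : Z.Modules) [G.IsQuasicoherent] (n : ℕ) :
    Nonempty ((Coh.Rpush (i ≫ f) n).obj G ≅
      (Coh.Rpush f n).obj ((Scheme.Modules.pushforward i).obj G)) := by
  have hT : ∀ Q : Z.Modules, Injective Q → ∀ q : ℕ, 0 < q →
      IsZero (((Scheme.Modules.pushforward f).rightDerived q).obj
        ((Scheme.Modules.pushforward i).obj Q)) := by
    intro Q hQ q hq
    obtain ⟨m, rfl⟩ : ∃ m, q = m + 1 := ⟨q - 1, by omega⟩
    exact isZero_rpush_push_injective i f Q m
  have hvan : ∀ q : ℕ, 0 < q → IsZero (((Scheme.Modules.pushforward i).rightDerived q).obj G) := by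
    intro q hq
    obtain ⟨m, rfl⟩ : ∃ m, q = m + 1 := ⟨q - 1, by omega⟩
    apply RpushComp.isZero_of_toAb
    obtain ⟨e⟩ := RpushComp.nonempty_iso i G (m + 1)
    exact IsZero.of_iso (RpushZero.rpushAb_isZero i G m) e
  obtain ⟨e⟩ := LerayCol3.nonempty_iso_row (Scheme.Modules.pushforward i)
    (Scheme.Modules.pushforward f) hT G hvan n
  exact ⟨(ExtRD.rightDerivedNatIso (Scheme.Modules.pushforwardComp i f).symm n).app G ≪≫ e⟩

end Groth.Agent.Lib.Helper5.ModLeray
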