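import Mathlib
import Groth.Agent.Lib.Helper5.TwoTerm.TSOrth

/-!
# Dévissage of bounded objects of a derived category along the canonical truncations (helper5)

The generic version of `Groth.Agent.Helper3.BCDer.bounded_induction`.
-/

open CategoryTheory Category Limits Pretriangulated DerivedCategory Triangulated

universe w v u

namespace Groth.Agent.Lib.Helper5.BddInd

variable {C : Type u} [Category.{v} C] [Abelian C] [HasDerivedCategory.{w} C]

/-- dévissage of bounded objects of `D(C)` along the canonical truncations -/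
theorem bounded_induction (P : DerivedCategory C → Prop) (PM : C → Prop)
    (hPMiso : ∀ M M' : C, (M ≅ M') → PM M → PM M')
    (hPMzero : ∀ M : C, IsZero M → PM M)
    (hzero : ∀ X : DerivedCategory C, IsZero X → P X)
    (hiso : ∀ X X' : DerivedCategory C, (X ≅ X') → P X → P X')
    (hsingle : ∀ (n : ℤ) (M : C), PM M → P ((DerivedCategory.singleFunctor C n).obj M))
    (htri : ∀ T ∈ distTriang (DerivedCategory C), P T.obj₁ → P T.obj₃ → P T.obj₂)
    (c : ℤ) (n : ℕ) :
    ∀ (X : DerivedCategory C) [X.IsGE c] [X.IsLE (c + n - 1)]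
      (_ : ∀ k : ℤ, PM ((DerivedCategory.homologyFunctor C k).obj X)), P X := by
  induction n with
  | zero =>
    intro X _ _ _
    exact hzero X ((TStructure.t).isZero X (c + (0 : ℕ) - 1) c (by simp))
  | succ n ih =>
    intro X _ _ hX
    let t : TStructure (DerivedCategory C) := TStructure.t
    let b : ℤ := c + n
    have hT := t.triangleLTGE_distinguished b X
    haveI hA1 : ((t.truncLT b).obj X).IsLE (c + n - 1) :=
      inferInstanceAs (t.IsLE ((t.truncLT b).obj X) (b - 1))
    haveI hA2 : ((t.truncLT b).obj X).IsGE c :=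
      inferInstanceAs (t.IsGE ((t.truncLT b).obj X) c)
    haveI hB1 : ((t.truncGE b).obj X).IsGE b := inferInstanceAs (t.IsGE ((t.truncGE b).obj X) b)
    haveI hXb : t.IsLE X b :=
      t.isLE_of_le X (c + (n + 1 : ℕ) - 1) b (by simp only [b]; push_cast; omega)
    haveI hB2 : ((t.truncGE b).obj X).IsLE b := inferInstanceAs (t.IsLE ((t.truncGE b).obj X) b)
    have h1 : P ((t.truncLT b).obj X) := by
      apply ih
      intro k
      by_cases hk : k < b
      · have : IsIso ((homologyFunctor C k).map ((t.truncLTι b).app X)) :=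
          _root_.Helper5.TwoTerm.isIso_homologyMap_mor₁ _ hT (k - 1) k (by lia)
            (isZero_of_isGE ((t.truncGE b).obj X) b (k - 1) (by lia))
            (isZero_of_isGE ((t.truncGE b).obj X) b k (by lia))
        exact hPMiso _ _
          (asIso ((homologyFunctor C k).map ((t.truncLTι b).app X))).symm (hX k)
      · exact hPMzero _ (isZero_of_isLE ((t.truncLT b).obj X) (b - 1) k (by lia))
    have h3 : P ((t.truncGE b).obj X) := by
      obtain ⟨Y, ⟨e⟩⟩ := exists_iso_singleFunctor_obj_of_isGE_of_isLE ((t.truncGE b).obj X) b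
      refine hiso _ _ e.symm (hsingle b Y ?_)
      have hA : ((t.truncLT b).obj X).IsLE (b - 1) :=
        inferInstanceAs (t.IsLE ((t.truncLT b).obj X) (b - 1))
      have : IsIso ((homologyFunctor C b).map ((t.truncGEπ b).app X)) :=
        _root_.Helper5.TwoTerm.isIso_homologyMap_mor₂ _ hT b (b + 1) rfl
          (isZero_of_isLE ((t.truncLT b).obj X) (b - 1) b (by lia))
          (isZero_of_isLE ((t.truncLT b).obj X) (b - 1) (b + 1) (by lia))
      refine hPMiso _ _ (asIso ((homologyFunctor C b).map ((t.truncGEπ b).app X)) ≪≫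
        (DerivedCategory.homologyFunctor C b).mapIso e ≪≫
        (DerivedCategory.singleFunctorCompHomologyFunctorIso C b).app Y) (hX b)
    exact htri _ hT h1 h3

/-- dévissage of bounded objects, with arbitrary bounds -/
theorem bounded_induction' (P : DerivedCategory C → Prop) (PM : C → Prop)
    (hPMiso : ∀ M M' : C, (M ≅ M') → PM M → PM M')
    (hPMzero : ∀ M : C, IsZero M → PM M)
    (hzero : ∀ X : DerivedCategory C, IsZero X → P X)
    (hiso : ∀ X X' : DerivedCategory C, (X ≅ X') → P X → P X')
    (hsingle : ∀ (n : ℤ) (M : C), PM M → P ((DerivedCategory.singleFunctor C n).obj M))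
    (htri : ∀ T ∈ distTriang (DerivedCategory C), P T.obj₁ → P T.obj₃ → P T.obj₂)
    (X : DerivedCategory C) (a b : ℤ) [X.IsGE a] [X.IsLE b]
    (hX : ∀ k : ℤ, PM ((DerivedCategory.homologyFunctor C k).obj X)) : P X := by
  haveI : X.IsLE (a + ((b - a + 1).toNat : ℕ) - 1) :=
    (TStructure.t : TStructure (DerivedCategory C)).isLE_of_le X b _ (by
      have := Int.self_le_toNat (b - a + 1)
      omega)
  exact bounded_induction P PM hPMiso hPMzero hzero hiso hsingle htri a (b - a + 1).toNat X hX

end Groth.Agent.Lib.Helper5.BddInd
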