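import Mathlib
import Groth.Agent.Lib.Helper5.RelPC.NPC
import Groth.Agent.Lib.Helper5.RelPC.CPAt5
import Groth.Agent.Lib.Helper5.RelPC.TransM
import Groth.Agent.Lib.Helper5.DRing.PCNoeth
import Groth.Agent.Lib.Helper5.TorAmp.PerfAmp

/-!
# Morphisms locally of finite type over a locally noetherian base are pseudo-coherent (helper5)
-/
set_option autoImplicit false
set_option linter.style.haveILetI false
universe u
open CategoryTheory CategoryTheory.Limits AlgebraicGeometry Opposite TopologicalSpace

attribute [local instance] HasDerivedCategory.standard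

namespace Groth.Agent.Lib.Helper5.NPCNoeth

open Groth.Agent.Lib.Helper5.CPAtLib Groth.Agent.Lib.Helper5.ClPush Groth.Agent.Lib.Helper5.PCTri
  Groth.Agent.Lib.Helper5.CPMoves Groth.Agent.Lib.Helper5.ChartIndep
  Groth.Agent.Lib.Helper5.FinPush Groth.Agent.Lib.Helper5.ExactHom
  Groth.Agent.Lib.Helper5.PCTermsSch Groth.Agent.Lib.Helper5.PCBiprod

section Alg
variable {P A : Type u} [CommRing P] [CommRing A]

/-- the target of a surjective ring map from a noetherian ring is pseudo-coherent over the
source -/
theorem pchomM_of_noetherian [IsNoetherianRing P] (φ : P →+* A) (hφ : Function.Surjective φ)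
    (m : ℤ) : PCHomM m φ := by
  letI : Algebra P A := φ.toAlgebra
  show PCHomM m (algebraMap P A)
  rw [pchomM_iff_alg]
  haveI : Module.Finite P A := Module.Finite.of_surjective (Algebra.linearMap P A) hφ
  have h : DRing.IsPseudoCoherentModule' P A :=
    (Groth.Agent.Helper5.PCDev.pcModule_iff_noetherian (R := P) A).2 inferInstance
  exact Groth.Agent.Helper5.TorAmp.pc_of_pc' h m

end Alg

variable {X S : Scheme.{u}}

/-- a morphism locally of finite type over a locally noetherian base is pseudo-coherent -/
theorem isNPC_of_locallyNoetherian (f : X ⟶ S) [LocallyOfFiniteType f] [IsLocallyNoetherian S]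
    (n : ℤ) : DerSch.IsNPseudoCoherent f n := by
  show DerSch.IsPseudoCoherentRel f n (DCoh.toD X (DerSch.unitCx X))
  rw [isPseudoCoherentRel_iff_cpAt]
  intro U V h
  obtain ⟨k, φ, hφ⟩ := exists_isChart f U V h
  haveI : IsNoetherianRing Γ(S, (V : S.Opens)) := IsLocallyNoetherian.component_noetherian V
  exact ⟨k, φ, hφ, (chartPC_unit_iff U.2 φ hφ.1 n).2 (pchomM_of_noetherian φ hφ.1 n)⟩

end Groth.Agent.Lib.Helper5.NPCNoeth
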