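import Mathlib
import Groth.Prelude.Def_DerSch2
import Groth.Agent.Lib.Helper4.RpushCoh1
import Groth.Agent.Lib.Helper5.ProperPush.BddInd
import Groth.Agent.Lib.Helper5.ProperPush.CohExt
import Groth.Agent.Lib.Helper5.ProperPush.NPCNoeth
import Groth.Agent.Lib.Helper5.Perf.PCCohNoeth
import Groth.Agent.Lib.Helper5.QC.RpushPC
import Groth.Agent.Lib.Helper5.QC.RpushQC
import Groth.Agent.Lib.Helper5.QC.LpullQC
import Groth.Agent.Lib.Helper5.Stalk.RpushRes
import Groth.Agent.Lib.Helper5.Stalk.RpushGE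
import Groth.Agent.Lib.Helper5.RpushCl.RpushClassic
import Groth.Agent.Lib.Helper5.RelPC.CPAt5

/-!
# Proper push-forward preserves pseudo-coherence over a locally noetherian base (helper5)
-/
set_option autoImplicit false
set_option linter.style.haveILetI false
universe u
open CategoryTheory CategoryTheory.Limits AlgebraicGeometry Opposite TopologicalSpace
open Pretriangulated DerivedCategory.HomologySequence

attribute [local instance] HasDerivedCategory.standard

namespace Groth.Agent.Lib.Helper5.ProperPush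

open Groth.Agent.Lib.Helper5.QC Groth.Agent.Lib.Helper5.MV Groth.Agent.Lib.Helper5.PCTri
  Groth.Agent.Lib.Helper5.PCCoh Groth.Agent.Lib.Helper5.CohExt Groth.Agent.Lib.Helper5.PCBiprod
  Groth.Agent.Lib.Helper5.RpushClassic Groth.Agent.Lib.Helper5.LocalCoh
  Groth.Agent.Lib.Helper5.RpushSupp

variable {X Y : Scheme.{u}} (f : X ⟶ Y)

/-- the property of the dévissage: `K ∈ D_QCoh` and `Rf_* K` has coherent cohomology -/
def CohPush [DCoh.HasRpush f] (K : DCoh.D X) : Prop :=
  DCoh.IsQCohD K ∧ ∀ i : ℤ, Coh.IsCoh (DCoh.HD ((DCoh.Rpush f).obj K) i)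

theorem cohPush_of_iso [DCoh.HasRpush f] {K K' : DCoh.D X} (e : K ≅ K') (h : CohPush f K) :
    CohPush f K' :=
  ⟨isQCohD_of_iso e h.1, fun i => isCoh_of_iso
    ((DerivedCategory.homologyFunctor Y.Modules i).mapIso ((DCoh.Rpush f).mapIso e)) (h.2 i)⟩

theorem cohPush_of_isZero [DCoh.HasRpush f] (K : DCoh.D X) (hK : IsZero K) : CohPush f K := by
  refine ⟨isQCohD_of_isZero K hK, fun i => isCoh_of_isZero _ ?_⟩
  haveI : K.IsGE (i + 1) := by
    rw [DerivedCategory.isGE_iff]
    intro j _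
    exact (DerivedCategory.homologyFunctor X.Modules j).map_isZero hK
  haveI := Groth.Agent.Lib.Helper5.RpushGE.rpush_isGE f K (i + 1)
  exact DerivedCategory.isZero_of_isGE _ (i + 1) i (by omega)

theorem cohPush_shift [DCoh.HasRpush f] (K : DCoh.D X) (h : CohPush f K) (c : ℤ) :
    CohPush f (K⟦c⟧) := by
  refine ⟨isQCohD_shift' K h.1 c, fun i => ?_⟩
  obtain ⟨e⟩ := nonempty_rpush_shift_iso f K c
  exact isCoh_of_iso ((hdShiftIso ((DCoh.Rpush f).obj K) c i (c + i) rfl).symm ≪≫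
    (DerivedCategory.homologyFunctor Y.Modules i).mapIso e.symm) (h.2 (c + i))

theorem cohPush_inD [IsProper f] [IsLocallyNoetherian Y] [DCoh.HasRpush f] (M : X.Modules)
    (hM : Coh.IsCoh M) : CohPush f (DCoh.inD X M) := by
  haveI : M.IsQuasicoherent := hM.1
  refine ⟨isQCohD_inD M, fun i => ?_⟩
  haveI : EnoughInjectives X.Modules := IsGrothendieckAbelian.enoughInjectives.{u}
  haveI : (DCoh.inD X M).IsGE 0 := inferInstance
  haveI := Groth.Agent.Lib.Helper5.RpushGE.rpush_isGE f (DCoh.inD X M) 0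
  by_cases hi : i < 0
  · exact isCoh_of_isZero _ (DerivedCategory.isZero_of_isGE _ 0 i hi)
  · obtain ⟨p, rfl⟩ := Int.eq_ofNat_of_zero_le (not_lt.1 hi)
    exact isCoh_of_iso (rpushIsoHD f M p)
      (Groth.Agent.Lib.Helper4.RpushCoh1.s0036 f M hM p)

theorem cohPush_single [IsProper f] [IsLocallyNoetherian Y] [DCoh.HasRpush f] (n : ℤ)
    (M : X.Modules) (hM : Coh.IsCoh M) :
    CohPush f ((DerivedCategory.singleFunctor X.Modules n).obj M) :=
  cohPush_of_iso f
    (((DerivedCategory.singleFunctors X.Modules).shiftIso (-n) n 0 (by omega)).app M)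
    (cohPush_shift f _ (cohPush_inD f M hM) (-n))

theorem cohPush_tri [IsProper f] [IsLocallyNoetherian Y] [DCoh.HasRpush f]
    (T : Triangle (DCoh.D X)) (hT : T ∈ distTriang (DCoh.D X))
    (h1 : CohPush f T.obj₁) (h3 : CohPush f T.obj₃) : CohPush f T.obj₂ := by
  have hq : DCoh.IsQCohD T.obj₂ := isQCohD_of_triangle_mid T hT h1.1 h3.1
  refine ⟨hq, fun i => ?_⟩
  obtain ⟨c, hc⟩ := exists_distinguished_rpush f T hT
  have hex := exact₂ _ hc i
  exact isCoh_of_exact _ hex (h1.2 i) (h3.2 i) (isQCohD_rpush f T.obj₂ hq i)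

/-- **`Rf_*` of a bounded object with coherent cohomology has coherent cohomology**, for `f`
proper with locally noetherian target -/
theorem isCoh_HD_rpush [IsProper f] [IsLocallyNoetherian Y] [DCoh.HasRpush f] (E : DCoh.D X)
    (a b : ℤ) [E.IsGE a] [E.IsLE b] (hE : ∀ i : ℤ, Coh.IsCoh (DCoh.HD E i)) (i : ℤ) :
    Coh.IsCoh (DCoh.HD ((DCoh.Rpush f).obj E) i) := by
  have key : CohPush f E :=
    Groth.Agent.Lib.Helper5.BddInd.bounded_induction' (C := X.Modules) (CohPush f)
      (fun M => Coh.IsCoh M) (fun _ _ e h => isCoh_of_iso e h) (fun M hM => isCoh_of_isZero M hM)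
      (fun K hK => cohPush_of_isZero f K hK) (fun _ _ e h => cohPush_of_iso f e h)
      (fun n M hM => cohPush_single f n M hM) (fun T hT h1 h3 => cohPush_tri f T hT h1 h3)
      E a b hE
  exact key.2 i

/-- the noetherian case -/
theorem isPC_rpush_noetherian [IsProper f] [IsNoetherian Y] [DCoh.HasRpush f] (E : DCoh.D X)
    (a : ℤ) [E.IsGE a] (hE : ∀ m : ℤ, DCoh.IsPseudoCoherentD m E) (m : ℤ) :
    DCoh.IsPseudoCoherentD m ((DCoh.Rpush f).obj E) := by
  haveI : IsLocallyNoetherian X := LocallyOfFiniteType.isLocallyNoetherian f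
  haveI : CompactSpace X := QuasiCompact.compactSpace_of_compactSpace f
  haveI : IsNoetherian X := {}
  have hEq : DCoh.IsQCohD E := isQCohD_of_isPC E hE
  have hcoh : ∀ i : ℤ, Coh.IsCoh (DCoh.HD E i) := fun i =>
    ((isPC_iff_noetherian E hEq i).1 (hE i)).1 i le_rfl
  obtain ⟨b, hb⟩ := ((isPC_iff_noetherian E hEq 0).1 (hE 0)).2
  haveI := hb
  obtain ⟨N, hN⟩ := exists_bound_shift f
  have hle : ((DCoh.Rpush f).obj E).IsLE (N + b - 1) := by
    rw [DerivedCategory.isLE_iff]
    intro i hi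
    exact hN E b hEq hb i (by omega)
  exact (isPC_iff_noetherian _ (isQCohD_rpush f E hEq) m).2
    ⟨fun i _ => isCoh_HD_rpush f E a b hcoh i, ⟨N + b - 1, hle⟩⟩

theorem isGE_restrictD (U : X.Opens) (E : DCoh.D X) (n : ℤ) [E.IsGE n] :
    ((DCoh.restrictD U.ι).obj E).IsGE n := by
  rw [DerivedCategory.isGE_iff]
  intro i hi
  have h0 : IsZero (DCoh.HD E i) := DerivedCategory.isZero_of_isGE E n i hi
  exact IsZero.of_iso (Functor.map_isZero (Scheme.Modules.restrictFunctor U.ι) h0)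
    (hdRestrictDIso E U i).symm

/-- **proper push-forward preserves pseudo-coherence of bounded below objects**, over a locally
noetherian base -/
theorem isPC_rpush_proper [IsProper f] [IsLocallyNoetherian Y] [DCoh.HasRpush f] (E : DCoh.D X)
    (a : ℤ) [E.IsGE a] (hE : ∀ m : ℤ, DCoh.IsPseudoCoherentD m E) (m : ℤ) :
    DCoh.IsPseudoCoherentD m ((DCoh.Rpush f).obj E) := by
  apply isPC_local
  intro y
  obtain ⟨_, ⟨V, hV : IsAffineOpen V, rfl⟩, hyV, -⟩ :=
    Y.isBasis_affineOpens.exists_subset_of_mem_open (Set.mem_univ y) isOpen_univ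
  refine ⟨V, hyV, ?_⟩
  haveI : IsAffine (V : Scheme.{u}) := hV
  haveI : IsLocallyNoetherian (V : Scheme.{u}) := isLocallyNoetherian_of_isOpenImmersion (Scheme.Opens.ι V)
  haveI : IsNoetherian (V : Scheme.{u}) := {}
  haveI : DCoh.HasRpush (f ∣_ V) :=
    Groth.Agent.Helper3.KInjDer.hasRightDerivedFunctor (DCoh.pushKh (f ∣_ V))
  haveI : IsProper (f ∣_ V) := IsZariskiLocalAtTarget.restrict ‹IsProper f› V
  haveI := isGE_restrictD (f ⁻¹ᵁ V) E a
  have h1 : ∀ m' : ℤ, DCoh.IsPseudoCoherentD m' ((DCoh.restrictD (f ⁻¹ᵁ V).ι).obj E) :=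
    fun m' => Groth.Agent.Lib.Helper5.IsoSq.isPC_restrictD (f ⁻¹ᵁ V).ι (hE m')
  exact isPC_of_iso ((Groth.Agent.Lib.Helper5.RpushRes.rpushRestrictIso f V).app E).symm
    (isPC_rpush_noetherian (f ∣_ V) _ a h1 m)

section Rel

variable {S : Scheme.{u}} [IsLocallyNoetherian S] (p : X ⟶ S) (q : Y ⟶ S)
  [LocallyOfFiniteType p] [LocallyOfFiniteType q]

/-- **proper push-forward preserves relative pseudo-coherence of bounded below objects**, over a
locally noetherian base -/
theorem isPseudoCoherentRelAll_rpush [IsProper f] (w : f ≫ q = p) [DCoh.HasRpush f]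
    (E : DCoh.D X) (a : ℤ) [E.IsGE a] (hE : DerSch.IsPseudoCoherentRelAll p E) :
    DerSch.IsPseudoCoherentRelAll q ((DCoh.Rpush f).obj E) := by
  haveI : IsLocallyNoetherian Y := LocallyOfFiniteType.isLocallyNoetherian q
  have hp := Groth.Agent.Lib.Helper5.NPCNoeth.isNPC_of_locallyNoetherian p
  have hq := Groth.Agent.Lib.Helper5.NPCNoeth.isNPC_of_locallyNoetherian q
  have h1 : ∀ m : ℤ, DCoh.IsPseudoCoherentD m E := fun m =>
    (Groth.Agent.Lib.Helper5.CPAtLib.isPC_iff_rel_of_isNPC p hp m E).2 (hE m)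
  intro m
  exact (Groth.Agent.Lib.Helper5.CPAtLib.isPC_iff_rel_of_isNPC q hq m _).1
    (isPC_rpush_proper f E a h1 m)

end Rel

end Groth.Agent.Lib.Helper5.ProperPush
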