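import Mathlib
import Groth.Prelude.Def_DerSch2
import Groth.Prelude.Def_ClSub2
import Groth.Agent.Lib.Helper5.ProperPush.Main
import Groth.Agent.Lib.Helper5.ProperPush.ModLeray
import Groth.Agent.Lib.Helper1.QcExt
import Groth.Agent.Lib.Lead.TilT6
import Groth.Agent.S0792
import Groth.Agent.S0791

/-!
# Direct images of complexes whose cohomology sheaves are coherent with proper support (helper5)
-/
set_option autoImplicit false
set_option linter.style.haveILetI false
set_option linter.unusedSectionVars false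
set_option linter.unusedVariables false
universe u
open CategoryTheory CategoryTheory.Limits AlgebraicGeometry Opposite TopologicalSpace
open Pretriangulated DerivedCategory.HomologySequence

attribute [local instance] HasDerivedCategory.standard

namespace Groth.Agent.Lib.Helper5.PSupp

open Groth.Agent.Lib.Helper5.QC Groth.Agent.Lib.Helper5.MV Groth.Agent.Lib.Helper5.PCTri
  Groth.Agent.Lib.Helper5.PCCoh Groth.Agent.Lib.Helper5.CohExt Groth.Agent.Lib.Helper5.PCBiprod
  Groth.Agent.Lib.Helper5.RpushClassic Groth.Agent.Lib.Helper5.LocalCoh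
  Groth.Agent.Lib.Helper5.RpushSupp Groth.Agent.Helper1 Groth.Agent.Helper1.FtLocal

section Five

variable {X : Scheme.{u}}

/-- the middle term of a five term exact sequence with coherent outer terms is coherent -/
theorem isCoh_of_exact5 [IsLocallyNoetherian X] {A₁ A₂ B C₁ C₂ : X.Modules}
    (a : A₁ ⟶ A₂) (b : A₂ ⟶ B) (c : B ⟶ C₁) (d : C₁ ⟶ C₂)
    (hab : a ≫ b = 0) (hbc : b ≫ c = 0) (hcd : c ≫ d = 0)
    (e₁ : (ShortComplex.mk a b hab).Exact) (e₂ : (ShortComplex.mk b c hbc).Exact)
    (e₃ : (ShortComplex.mk c d hcd).Exact)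
    (hA₁ : Coh.IsCoh A₁) (hA₂ : Coh.IsCoh A₂) (hC₁ : Coh.IsCoh C₁) (hC₂ : Coh.IsCoh C₂) :
    Coh.IsCoh B := by
  haveI := hA₁.1
  haveI := hA₂.1
  haveI := hC₁.1
  haveI := hC₂.1
  haveI hKq : (cokernel a).IsQuasicoherent := QcAbel.isQuasicoherent_cokernel a
  have hK : Coh.IsCoh (cokernel a) := isCoh_of_epi (cokernel.π a) hA₂ hKq
  haveI hDq : (kernel d).IsQuasicoherent := QcAbel.isQuasicoherent_kernel d
  have hD : Coh.IsCoh (kernel d) := isCoh_of_mono (kernel.ι d) hC₁ hDq
  haveI hm : Mono (cokernel.desc a b hab) :=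
    ((ShortComplex.mk a b hab).exact_iff_mono_cokernel_desc).1 e₁
  haveI he : Epi (kernel.lift d c hcd) :=
    ((ShortComplex.mk c d hcd).exact_iff_epi_kernel_lift).1 e₃
  have hz : cokernel.desc a b hab ≫ kernel.lift d c hcd = 0 := by
    rw [← cancel_epi (cokernel.π a), ← cancel_mono (kernel.ι d)]
    simp [hbc]
  have hz' : cokernel.desc a b hab ≫ c = 0 := by
    rw [← cancel_epi (cokernel.π a)]
    simp [hbc]
  -- exactness of `(desc, c)`
  have ex1 : (ShortComplex.mk (cokernel.desc a b hab) c hz').Exact := by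
    let φ : ShortComplex.mk b c hbc ⟶ ShortComplex.mk (cokernel.desc a b hab) c hz' :=
      { τ₁ := cokernel.π a
        τ₂ := 𝟙 _
        τ₃ := 𝟙 _
        comm₁₂ := by simp
        comm₂₃ := by simp }
    haveI : Epi φ.τ₁ := inferInstanceAs (Epi (cokernel.π a))
    haveI : IsIso φ.τ₂ := inferInstanceAs (IsIso (𝟙 B))
    haveI : Mono φ.τ₃ := inferInstanceAs (Mono (𝟙 C₁))
    exact (ShortComplex.exact_iff_of_epi_of_isIso_of_mono φ).1 e₂
  have ex2 : (ShortComplex.mk (cokernel.desc a b hab) (kernel.lift d c hcd) hz).Exact := by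
    let φ : ShortComplex.mk (cokernel.desc a b hab) (kernel.lift d c hcd) hz ⟶
        ShortComplex.mk (cokernel.desc a b hab) c hz' :=
      { τ₁ := 𝟙 _
        τ₂ := 𝟙 _
        τ₃ := kernel.ι d
        comm₁₂ := by simp
        comm₂₃ := by simp }
    haveI : Epi φ.τ₁ := inferInstanceAs (Epi (𝟙 (cokernel a)))
    haveI : IsIso φ.τ₂ := inferInstanceAs (IsIso (𝟙 B))
    haveI : Mono φ.τ₃ := inferInstanceAs (Mono (kernel.ι d))
    exact (ShortComplex.exact_iff_of_epi_of_isIso_of_mono φ).2 ex1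
  let S' : ShortComplex X.Modules :=
    ShortComplex.mk (cokernel.desc a b hab) (kernel.lift d c hcd) hz
  have hS' : S'.ShortExact := { exact := ex2, mono_f := hm, epi_g := he }
  haveI : S'.X₁.IsQuasicoherent := hKq
  haveI : S'.X₃.IsQuasicoherent := hDq
  have hBq : B.IsQuasicoherent := QcExt.isQuasicoherent_mid (S := S') hS'
  exact isCoh_of_shortExact (S := S') hS' hK hD hBq

end Five

end Groth.Agent.Lib.Helper5.PSupp
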