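import Mathlib
import Groth.Prelude.Def_DerSch2
import Groth.Prelude.Def_ClSub2
import Groth.Agent.Lib.Helper5.ProperPush.PSupp
import Groth.Agent.Lib.Helper1.Dv8

/-!
# Direct images of complexes whose cohomology sheaves are coherent with proper support, II (helper5)
-/
set_option autoImplicit false
set_option linter.style.haveILetI false
set_option linter.unusedSectionVars false
set_option linter.unusedVariables false
universe u
open CategoryTheory CategoryTheory.Limits AlgebraicGeometry Opposite TopologicalSpace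
open Pretriangulated DerivedCategory.HomologySequence

attribute [local instance] HasDerivedCategory.standard

namespace Groth.Agent.Lib.Helper5.PSupp

open Groth.Agent.Lib.Helper5.QC Groth.Agent.Lib.Helper5.MV Groth.Agent.Lib.Helper5.PCTri
  Groth.Agent.Lib.Helper5.PCCoh Groth.Agent.Lib.Helper5.CohExt Groth.Agent.Lib.Helper5.PCBiprod
  Groth.Agent.Lib.Helper5.RpushClassic Groth.Agent.Lib.Helper5.LocalCoh
  Groth.Agent.Lib.Helper5.RpushSupp

variable {X S : Scheme.{u}} (f : X ⟶ S)

/-- coherent with support proper over the base -/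
def PM (M : X.Modules) : Prop := Coh.IsCoh M ∧ ClSub.IsProperOver f (CohB1.support M)

theorem pm_of_iso {M M' : X.Modules} (e : M ≅ M') (h : PM f M) : PM f M' :=
  ⟨isCoh_of_iso e h.1, by
    rw [← Groth.Agent.Lead.TilT.support_eq_of_iso e]
    exact h.2⟩

theorem isProperOver_empty [LocallyOfFiniteType f] : ClSub.IsProperOver f (∅ : Set X) := by
  have h := Groth.Agent.S0791.result f Empty (fun e => e.elim) (fun e => e.elim)
  rwa [Set.iUnion_of_empty] at h

theorem pm_of_isZero [LocallyOfFiniteType f] (M : X.Modules) (h : IsZero M) : PM f M :=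
  ⟨isCoh_of_isZero M h, by
    rw [Groth.Agent.Helper1.Dv.support_isZero h]
    exact isProperOver_empty f⟩

/-- a coherent module with proper support is the push-forward of a coherent module from a closed
subscheme proper over the base -/
theorem exists_closed_model [LocallyOfFiniteType f] (M : X.Modules) (h : PM f M) :
    ∃ (Z : Scheme.{u}) (i : Z ⟶ X), IsClosedImmersion i ∧ IsProper (i ≫ f) ∧
      ∃ G : Z.Modules, Coh.IsCoh G ∧ Nonempty ((Scheme.Modules.pushforward i).obj G ≅ M) := by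
  obtain ⟨Z, i, hi, hp, G, hGq, hGf, he⟩ := (Groth.Agent.S0792.result f M h.1.1 h.1.2).1 h.2
  exact ⟨Z, i, hi, hp, G, ⟨hGq, hGf⟩, he⟩

/-- the property of the dévissage: `Rf_* K` has coherent cohomology and is bounded above -/
def PPush [DCoh.HasRpush f] (K : DCoh.D X) : Prop :=
  (∀ i : ℤ, Coh.IsCoh (DCoh.HD ((DCoh.Rpush f).obj K) i)) ∧
    ∃ b : ℤ, ((DCoh.Rpush f).obj K).IsLE b

theorem pPush_of_iso [DCoh.HasRpush f] {K K' : DCoh.D X} (e : K ≅ K') (h : PPush f K) :
    PPush f K' := by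
  refine ⟨fun i => isCoh_of_iso
    ((DerivedCategory.homologyFunctor S.Modules i).mapIso ((DCoh.Rpush f).mapIso e)) (h.1 i), ?_⟩
  obtain ⟨b, hb⟩ := h.2
  haveI := hb
  exact ⟨b, DerivedCategory.TStructure.t.isLE_of_iso ((DCoh.Rpush f).mapIso e) b⟩

theorem pPush_of_isZero [DCoh.HasRpush f] (K : DCoh.D X) (hK : IsZero K) : PPush f K := by
  have hz : ∀ i : ℤ, IsZero (DCoh.HD ((DCoh.Rpush f).obj K) i) := by
    intro i
    haveI : K.IsGE (i + 1) := by
      rw [DerivedCategory.isGE_iff]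
      intro j _
      exact (DerivedCategory.homologyFunctor X.Modules j).map_isZero hK
    haveI := Groth.Agent.Lib.Helper5.RpushGE.rpush_isGE f K (i + 1)
    exact DerivedCategory.isZero_of_isGE _ (i + 1) i (by omega)
  refine ⟨fun i => isCoh_of_isZero _ (hz i), 0, ?_⟩
  rw [DerivedCategory.isLE_iff]
  intro i _
  exact hz i

theorem pPush_shift [DCoh.HasRpush f] (K : DCoh.D X) (h : PPush f K) (c : ℤ) :
    PPush f (K⟦c⟧) := by
  obtain ⟨e⟩ := nonempty_rpush_shift_iso f K c
  refine ⟨fun i => isCoh_of_iso ((hdShiftIso ((DCoh.Rpush f).obj K) c i (c + i) rfl).symm ≪≫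
    (DerivedCategory.homologyFunctor S.Modules i).mapIso e.symm) (h.1 (c + i)), ?_⟩
  obtain ⟨b, hb⟩ := h.2
  haveI := hb
  haveI : (((DCoh.Rpush f).obj K)⟦c⟧).IsLE (b - c) :=
    DerivedCategory.TStructure.t.isLE_shift ((DCoh.Rpush f).obj K) b c (b - c) (by omega)
  exact ⟨b - c, DerivedCategory.TStructure.t.isLE_of_iso e.symm (b - c)⟩

theorem pPush_inD [IsNoetherian S] [LocallyOfFiniteType f] [DCoh.HasRpush f] (M : X.Modules)
    (hM : PM f M) : PPush f (DCoh.inD X M) := by
  obtain ⟨Z, i, hi, hp, G, hG, ⟨e⟩⟩ := exists_closed_model f M hM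
  haveI := hi
  haveI := hp
  haveI : G.IsQuasicoherent := hG.1
  haveI : DCoh.HasRpush (i ≫ f) :=
    Groth.Agent.Helper3.KInjDer.hasRightDerivedFunctor (DCoh.pushKh (i ≫ f))
  haveI := Groth.Agent.Helper3.LerayCol.hasInjectiveResolutions Z
  haveI := Groth.Agent.Helper3.LerayCol.hasInjectiveResolutions X
  haveI : (DCoh.inD X M).IsGE 0 := inferInstance
  haveI := Groth.Agent.Lib.Helper5.RpushGE.rpush_isGE f (DCoh.inD X M) 0
  obtain ⟨N, hN⟩ := exists_bound_shift (i ≫ f)
  have hiso : ∀ p : ℕ, Nonempty (DCoh.HD ((DCoh.Rpush f).obj (DCoh.inD X M)) (p : ℤ) ≅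
      DCoh.HD ((DCoh.Rpush (i ≫ f)).obj (DCoh.inD Z G)) (p : ℤ)) := by
    intro p
    obtain ⟨e2⟩ := Groth.Agent.Lib.Helper5.ModLeray.nonempty_rpush_comp i f G p
    exact ⟨(rpushIsoHD f M p).symm ≪≫ (Coh.Rpush f p).mapIso e.symm ≪≫ e2.symm ≪≫
      rpushIsoHD (i ≫ f) G p⟩
  refine ⟨fun j => ?_, max N 0, ?_⟩
  · by_cases hj : j < 0
    · exact isCoh_of_isZero _ (DerivedCategory.isZero_of_isGE _ 0 j hj)
    · obtain ⟨p, rfl⟩ := Int.eq_ofNat_of_zero_le (not_lt.1 hj)
      obtain ⟨e3⟩ := hiso p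
      exact isCoh_of_iso (rpushIsoHD (i ≫ f) G p ≪≫ e3.symm)
        (Groth.Agent.Lib.Helper4.RpushCoh1.s0036 (i ≫ f) G hG p)
  · rw [DerivedCategory.isLE_iff]
    intro j hj
    have hj0 : 0 ≤ j := le_trans (le_max_right N 0) hj.le
    obtain ⟨p, rfl⟩ := Int.eq_ofNat_of_zero_le hj0
    obtain ⟨e3⟩ := hiso p
    refine IsZero.of_iso ?_ e3
    have hle : (DCoh.inD Z G).IsLE 0 := inferInstance
    exact hN (DCoh.inD Z G) 0 (isQCohD_inD G) hle (p : ℤ)
      (by have := le_max_left N 0; omega)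

theorem pPush_single [IsNoetherian S] [LocallyOfFiniteType f] [DCoh.HasRpush f] (n : ℤ)
    (M : X.Modules) (hM : PM f M) :
    PPush f ((DerivedCategory.singleFunctor X.Modules n).obj M) :=
  pPush_of_iso f
    (((DerivedCategory.singleFunctors X.Modules).shiftIso (-n) n 0 (by omega)).app M)
    (pPush_shift f _ (pPush_inD f M hM) (-n))

theorem pPush_tri [IsLocallyNoetherian S] [DCoh.HasRpush f]
    (T : Triangle (DCoh.D X)) (hT : T ∈ distTriang (DCoh.D X))
    (h1 : PPush f T.obj₁) (h3 : PPush f T.obj₃) : PPush f T.obj₂ := by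
  obtain ⟨c, hc⟩ := exists_distinguished_rpush f T hT
  refine ⟨fun i => ?_, ?_⟩
  · exact isCoh_of_exact5 _ _ _ _ _ _ _
      (exact₁ _ hc (i - 1) i (by omega)) (exact₂ _ hc i) (exact₃ _ hc i (i + 1) rfl)
      (h3.1 (i - 1)) (h1.1 i) (h3.1 i) (h1.1 (i + 1))
  · obtain ⟨b1, hb1⟩ := h1.2
    obtain ⟨b3, hb3⟩ := h3.2
    refine ⟨max b1 b3, ?_⟩
    have hb1' : ((DCoh.Rpush f).obj T.obj₁).IsLE (max b1 b3) :=
      DerivedCategory.TStructure.t.isLE_of_le _ b1 _ (le_max_left _ _)
    have hb3' : ((DCoh.Rpush f).obj T.obj₃).IsLE (max b1 b3) :=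
      DerivedCategory.TStructure.t.isLE_of_le _ b3 _ (le_max_right _ _)
    exact DerivedCategory.TStructure.t.isLE₂ _ hc (max b1 b3) hb1' hb3'

/-- **`Rf_*` of a bounded object whose cohomology sheaves are coherent with proper support has
coherent cohomology and is bounded above** -/
theorem pPush_bounded [IsNoetherian S] [LocallyOfFiniteType f] [DCoh.HasRpush f] (E : DCoh.D X)
    (a b : ℤ) [E.IsGE a] [E.IsLE b] (hE : ∀ i : ℤ, PM f (DCoh.HD E i)) : PPush f E :=
  Groth.Agent.Lib.Helper5.BddInd.bounded_induction' (C := X.Modules) (PPush f)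
    (PM f) (fun _ _ e h => pm_of_iso f e h) (fun M hM => pm_of_isZero f M hM)
    (fun K hK => pPush_of_isZero f K hK) (fun _ _ e h => pPush_of_iso f e h)
    (fun n M hM => pPush_single f n M hM) (fun T hT h1 h3 => pPush_tri f T hT h1 h3)
    E a b hE

/-- the bounded below case -/
theorem isCoh_HD_rpush_bddBelow [IsNoetherian S] [LocallyOfFiniteType f] [DCoh.HasRpush f]
    (E : DCoh.D X) (a : ℤ) [E.IsGE a] (hE : ∀ i : ℤ, PM f (DCoh.HD E i)) (i : ℤ) :
    Coh.IsCoh (DCoh.HD ((DCoh.Rpush f).obj E) i) := by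
  let t : Triangulated.TStructure (DCoh.D X) := DerivedCategory.TStructure.t
  let b : ℤ := i + 1
  have hT := t.triangleLTGE_distinguished b E
  haveI hA1 : ((t.truncLT b).obj E).IsLE i := by
    have h0 : t.IsLE ((t.truncLT b).obj E) (b - 1) := inferInstance
    exact t.isLE_of_le _ (b - 1) i (by simp [b])
  haveI hA2 : ((t.truncLT b).obj E).IsGE a :=
    inferInstanceAs (t.IsGE ((t.truncLT b).obj E) a)
  haveI hB1 : ((t.truncGE b).obj E).IsGE b := inferInstanceAs (t.IsGE ((t.truncGE b).obj E) b)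
  have hA : ∀ k : ℤ, PM f (DCoh.HD ((t.truncLT b).obj E) k) := by
    intro k
    by_cases hk : k < b
    · have : IsIso ((DerivedCategory.homologyFunctor X.Modules k).map ((t.truncLTι b).app E)) :=
        _root_.Helper5.TwoTerm.isIso_homologyMap_mor₁ _ hT (k - 1) k (by lia)
          (DerivedCategory.isZero_of_isGE ((t.truncGE b).obj E) b (k - 1) (by lia))
          (DerivedCategory.isZero_of_isGE ((t.truncGE b).obj E) b k (by lia))
      exact pm_of_iso f
        (asIso ((DerivedCategory.homologyFunctor X.Modules k).map ((t.truncLTι b).app E))).symm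
        (hE k)
    · exact pm_of_isZero f _
        (DerivedCategory.isZero_of_isLE ((t.truncLT b).obj E) i k (by lia))
  have key := pPush_bounded f ((t.truncLT b).obj E) a i hA
  obtain ⟨c, hc⟩ := exists_distinguished_rpush f _ hT
  haveI := Groth.Agent.Lib.Helper5.RpushGE.rpush_isGE f ((t.truncGE b).obj E) b
  have : IsIso ((DerivedCategory.homologyFunctor S.Modules i).map
      ((DCoh.Rpush f).map ((t.truncLTι b).app E))) :=
    _root_.Helper5.TwoTerm.isIso_homologyMap_mor₁ _ hc (i - 1) i (by lia)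
      (DerivedCategory.isZero_of_isGE ((DCoh.Rpush f).obj ((t.truncGE b).obj E)) b (i - 1)
        (by lia))
      (DerivedCategory.isZero_of_isGE ((DCoh.Rpush f).obj ((t.truncGE b).obj E)) b i (by lia))
  exact isCoh_of_iso (asIso ((DerivedCategory.homologyFunctor S.Modules i).map
      ((DCoh.Rpush f).map ((t.truncLTι b).app E)))) (key.1 i)

end Groth.Agent.Lib.Helper5.PSupp
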